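import Mathlib
import Cfsg.Agent.Lib.Char.TwoLargest
import Cfsg.Agent.Lib.PGroups.Parts
import Cfsg.Agent.Lib.PGroups.ClassPower
import Cfsg.Agent.Lib.PGroups.ClassLemmas
import Cfsg.Agent.Lib.OddLocal.PGroup
import Cfsg.Agent.Lib.Recog.PermBasic
import Cfsg.Agent.S4035
import Cfsg.Agent.S4134

/-!
# Groups with class sizes `1, n, m, nm`, `n`, `m` coprime (first part)

Elements of class sizes `n` and `m` commute as soon as a class of size `nm` exists.
-/

set_option autoImplicit false

namespace Cfsg.Agent.Lib.Misc7.TypeVec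

open Subgroup Cfsg.Agent.Lib.Char.TwoLargest Cfsg.Agent.Lib.PGroups

variable {G : Type*} [Group G] [Finite G]

/-- The numerical hypotheses. -/
structure Vec (G : Type*) [Group G] (n m : ℕ) : Prop where
  hn : 1 < n
  hm : 1 < m
  hcop : n.Coprime m
  hS : ∀ g : G, cc g = 1 ∨ cc g = n ∨ cc g = m ∨ cc g = n * m
  hexN : ∃ x : G, cc x = n
  hexM : ∃ y : G, cc y = m

variable {n m : ℕ}

theorem Vec.symm (V : Vec G n m) : Vec G m n :=
  ⟨V.hm, V.hn, V.hcop.symm, fun g => by
    rcases V.hS g with h | h | h | h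
    · exact Or.inl h
    · exact Or.inr (Or.inr (Or.inl h))
    · exact Or.inr (Or.inl h)
    · exact Or.inr (Or.inr (Or.inr (by rw [h, mul_comm]))), V.hexM, V.hexN⟩

theorem Vec.mul_n_cases (V : Vec G n m) {g : G} {f : ℕ} (h : cc g = f * n) : f = 1 ∨ f = m := by
  have hn0 : 0 < n := by have := V.hn; omega
  rcases V.hS g with h1 | h1 | h1 | h1
  · exfalso
    rw [h1] at h
    have := Nat.eq_one_of_mul_eq_one_left h.symm
    have := V.hn
    omega
  · left
    rw [h1] at h
    exact Nat.eq_of_mul_eq_mul_right hn0 (by rw [← h, one_mul])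
  · exfalso
    rw [h1] at h
    have h2 : n ∣ m := ⟨f, by rw [h, mul_comm]⟩
    have h3 : n = 1 := Nat.eq_one_of_dvd_coprimes V.hcop (dvd_refl n) h2
    have := V.hn
    omega
  · right
    rw [h1, mul_comm n m] at h
    exact (Nat.eq_of_mul_eq_mul_right hn0 h).symm

theorem Vec.mul_nm (V : Vec G n m) {g : G} {f : ℕ} (h : cc g = f * (n * m)) : f = 1 := by
  have h1 : cc g = (f * m) * n := by rw [h]; ring
  have hm0 : 0 < m := by have := V.hm; omega
  rcases V.mul_n_cases h1 with h2 | h2
  · exfalso
    have := Nat.eq_one_of_mul_eq_one_left h2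
    have := V.hm
    omega
  · exact Nat.eq_of_mul_eq_mul_right hm0 (by rw [h2, one_mul])

theorem eq_of_le_of_index_eq {H K : Subgroup G} (h : H ≤ K) (hi : H.index = K.index) : H = K := by
  have h1 := Subgroup.relIndex_mul_index h
  have hp : 0 < K.index := Nat.pos_of_ne_zero Subgroup.index_ne_zero_of_finite
  have h2 : H.relIndex K = 1 := by
    have : H.relIndex K * K.index = K.index := by rw [h1]; exact hi
    exact Nat.eq_of_mul_eq_mul_right hp (by rw [this, one_mul])
  exact le_antisymm h (relIndex_eq_one.mp h2)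

theorem cc_eq_relIndex_of_cent {a e c : G} (h : cent c = cent a ⊓ cent e) :
    cc c = (cent e).relIndex (cent a) * cc a := by
  have h4 : (cent a ⊓ cent e).relIndex (cent a) * (cent a).index = (cent a ⊓ cent e).index :=
    Subgroup.relIndex_mul_index inf_le_left
  have h5 : (cent a ⊓ cent e).relIndex (cent a) = (cent e).relIndex (cent a) := by
    rw [inf_comm, Subgroup.inf_relIndex_right]
  rw [cc, h, ← h4, h5]

theorem cc_mul_eq {a e : G} (hc : Commute a e) (hcop : (orderOf a).Coprime (orderOf e)) :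
    cc (a * e) = (cent e).relIndex (cent a) * cc a :=
  cc_eq_relIndex_of_cent (centralizer_mul_of_coprime hc hcop)

theorem Vec.relIndex_cases (V : Vec G n m) {x e : G} (hx : cc x = n) (hc : Commute x e)
    (hcop : (orderOf x).Coprime (orderOf e)) :
    (cent e).relIndex (cent x) = 1 ∨ (cent e).relIndex (cent x) = m := by
  have h := cc_mul_eq hc hcop
  rw [hx] at h
  exact V.mul_n_cases h

theorem relIndex_of_coprime {x y : G} (h : (cc x).Coprime (cc y)) :
    (cent y).relIndex (cent x) = cc y := by
  have h1 := Cfsg.Agent.Lib.Basic.index_inf_of_coprime (cent x) (cent y) h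
  have h4 : (cent x ⊓ cent y).relIndex (cent x) * (cent x).index = (cent x ⊓ cent y).index :=
    Subgroup.relIndex_mul_index inf_le_left
  have h5 : (cent x ⊓ cent y).relIndex (cent x) = (cent y).relIndex (cent x) := by
    rw [inf_comm, Subgroup.inf_relIndex_right]
  rw [h5, h1, mul_comm] at h4
  exact Nat.eq_of_mul_eq_mul_left (cc_pos x) h4

theorem index_centralizer_coe (K : Subgroup G) (z : K) :
    (centralizer ({z} : Set K)).index = (cent (z : G)).relIndex K := by
  have h6 : centralizer ({z} : Set K) = (centralizer ({(z : G)} : Set G)).subgroupOf K := by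
    ext y
    rw [mem_centralizer_singleton_iff, Subgroup.mem_subgroupOf, mem_centralizer_singleton_iff]
    exact ⟨fun h => by simpa using congrArg Subtype.val h, fun h => Subtype.ext (by simpa using h)⟩
  rw [h6]; rfl

/-- Splitting off the normal Sylow subgroup when the prime divides no regular class size. -/
theorem struct_of_regular {K : Type*} [Group K] [Finite K] (s : ℕ) [Fact s.Prime]
    (h : ∀ z : K, (orderOf z).Coprime s → ¬ s ∣ (centralizer ({z} : Set K)).index) :
    ∃ (S H : Subgroup K), S.Normal ∧ H.Normal ∧ IsPGroup s S ∧ (Nat.card H).Coprime s ∧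
      S ⊓ H = ⊥ ∧ S ⊔ H = ⊤ ∧ (∀ a ∈ S, ∀ b ∈ H, Commute a b) ∧
      (∀ z : K, (orderOf z).Coprime s → z ∈ H) ∧ (∀ z : K, (∃ j, orderOf z = s ^ j) → z ∈ S) := by
  have hp : s.Prime := Fact.out
  have h1 : ∀ z : K, (orderOf z).Coprime s → ¬ s ∣ (ConjClasses.mk z).carrier.ncard := by
    intro z hz
    rw [carrier_ncard_eq_index]
    exact h z hz
  obtain ⟨S⟩ : Nonempty (Sylow s K) := inferInstance
  obtain ⟨hSn, H, hHn, hHp, hinf, hsup⟩ := Cfsg.Agent.S4035.result h1 S
  have hdisj : Disjoint (S : Subgroup K) H := disjoint_iff.mpr hinf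
  have hcomm : ∀ a ∈ (S : Subgroup K), ∀ b ∈ H, Commute a b := fun a ha b hb =>
    Subgroup.commute_of_normal_of_disjoint _ _ hSn hHn hdisj a b ha hb
  have hHcop : (Nat.card H).Coprime s := ((Nat.Prime.coprime_iff_not_dvd hp).mpr hHp).symm
  refine ⟨S, H, hSn, hHn, S.isPGroup', hHcop, hinf, hsup, hcomm, ?_, ?_⟩
  · intro z hz
    have hzt : z ∈ (S : Subgroup K) ⊔ H := by rw [hsup]; exact mem_top z
    obtain ⟨a, ha, b, hb, rfl⟩ := Subgroup.mem_sup_of_normal_right.mp hzt
    have hc := hcomm a ha b hb
    set k := orderOf (a * b) with hk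
    have h2 : a ^ k * b ^ k = 1 := by
      rw [← hc.mul_pow, hk, pow_orderOf_eq_one]
    have h3 : a ^ k = (b ^ k)⁻¹ := eq_inv_of_mul_eq_one_left h2
    have h4 : a ^ k ∈ (S : Subgroup K) ⊓ H :=
      Subgroup.mem_inf.mpr ⟨pow_mem ha k, by rw [h3]; exact inv_mem (pow_mem hb k)⟩
    rw [hinf, Subgroup.mem_bot] at h4
    obtain ⟨j, hj⟩ := S.2 ⟨a, ha⟩
    have hj' : a ^ s ^ j = 1 := congrArg Subtype.val hj
    have h5 : a ^ Nat.gcd k (s ^ j) = 1 := pow_gcd_eq_one.mpr ⟨h4, hj'⟩
    rw [Nat.Coprime.pow_right j hz, pow_one] at h5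
    rw [h5, one_mul]
    exact hb
  · intro z hz
    obtain ⟨T, hT⟩ := (isPGroup_zpowers_iff.mpr hz).exists_le_sylow
    have hTS : T = S := by
      haveI := Sylow.unique_of_normal S hSn
      exact Subsingleton.elim _ _
    rw [← hTS]
    exact hT (mem_zpowers z)

/-- Commuting elements of class sizes `n`, `m` cannot both be `s`-elements (`s ∤ m`). -/
theorem Vec.same (V : Vec G n m) {x y : G} {s a b : ℕ} [Fact s.Prime] (hx : cc x = n)
    (hy : cc y = m) (hc : Commute x y) (hxo : orderOf x = s ^ a) (hyo : orderOf y = s ^ b)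
    (hs : ¬ s ∣ m) : False := by
  have hp : s.Prime := Fact.out
  have hcxy : (cc x).Coprime (cc y) := by rw [hx, hy]; exact V.hcop
  set K := cent x with hK
  have h1 : ∀ z : K, (orderOf z).Coprime s → ¬ s ∣ (centralizer ({z} : Set K)).index := by
    intro z hz hd
    rw [index_centralizer_coe] at hd
    have hzc : Commute x (z : G) := (mem_centralizer_singleton_iff.mp z.2).symm
    have hcop : (orderOf x).Coprime (orderOf (z : G)) := by
      rw [hxo, Subgroup.orderOf_coe]
      exact Nat.Coprime.pow_left a hz.symm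
    rcases V.relIndex_cases hx hzc hcop with h2 | h2
    · rw [h2] at hd
      exact hp.one_lt.ne' (Nat.dvd_one.mp hd)
    · rw [h2] at hd
      exact hs hd
  obtain ⟨S, H, hSn, hHn, hSp, hHc, hinf, hsup, hcomm, hreg, hsing⟩ := struct_of_regular s h1
  have hyK : y ∈ K := mem_cent_iff.mpr hc.eq.symm
  let yh : K := ⟨y, hyK⟩
  have hyS : yh ∈ S := hsing yh ⟨b, by rw [Subgroup.orderOf_mk]; exact hyo⟩
  have hle : H ≤ centralizer ({yh} : Set K) := by
    intro b hb
    rw [mem_centralizer_singleton_iff]
    exact (hcomm yh hyS b hb).symm.eq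
  have h2 : (centralizer ({yh} : Set K)).index = m := by
    rw [index_centralizer_coe]
    have := relIndex_of_coprime hcxy
    rw [hy] at this
    exact this
  have h3 : m ∣ H.index := by
    rw [← h2]
    exact Subgroup.index_dvd_of_le hle
  have h4 : H.index ∣ Nat.card S := by
    have h5 := Subgroup.relIndex_sup_right S H
    rw [hsup, Subgroup.relIndex_top_right] at h5
    rw [h5]
    exact Subgroup.relIndex_dvd_card H S
  obtain ⟨j, hj⟩ := IsPGroup.iff_card.mp hSp
  rw [hj] at h4
  obtain ⟨i, _, hi⟩ := (Nat.dvd_prime_pow hp).mp (h3.trans h4)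
  have hm1 := V.hm
  rcases i with _ | i
  · rw [pow_zero] at hi; omega
  · exact hs (by rw [hi]; exact dvd_pow_self s (Nat.succ_ne_zero i))

theorem Vec.same_all (V : Vec G n m) {x y : G} {s a b : ℕ} [Fact s.Prime] (hx : cc x = n)
    (hy : cc y = m) (hc : Commute x y) (hxo : orderOf x = s ^ a) (hyo : orderOf y = s ^ b) :
    False := by
  have hp : s.Prime := Fact.out
  by_cases hs : s ∣ m
  · have hs' : ¬ s ∣ n := fun h => by
      have := Nat.eq_one_of_dvd_coprimes V.hcop h hs
      exact hp.one_lt.ne' this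
    exact V.symm.same hy hx hc.symm hyo hxo hs'
  · exact V.same hx hy hc hxo hyo hs

/-- An `r`-element commutes with elements of class size prime to `r`. -/
theorem commute_of_coprime_index {u y : G} {r j : ℕ} [Fact r.Prime] (h : (cc u).Coprime (cc y))
    (hu : orderOf u = r ^ j) (hr : ¬ r ∣ cc y) : Commute u y := by
  obtain ⟨t, ht⟩ := exists_conj_mem_of_not_dvd (cent y) hu hr
  obtain ⟨t', h1, h2⟩ := pair_conj h t 1
  have h2' : t' * y * t'⁻¹ = y := by simpa using h2
  have h3 : Commute (t' * u * t'⁻¹) (t' * y * t'⁻¹) := by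
    rw [h1, h2']
    exact (mem_cent_iff.mp ht)
  exact (Commute.conj_iff t').mp h3

/-- Non-commuting elements of class sizes `n > m` rule out a class of size `nm`. -/
theorem Vec.nc (V : Vec G n m) (hlt : m < n) {x₀ y₀ w : G} (hx : cc x₀ = n) (hy₀ : cc y₀ = m)
    (hw : cc w = n * m) (hnc : ¬ Commute x₀ y₀) : False := by
  classical
  have hn1 := V.hn
  have hm1 := V.hm
  have hcnm := V.hcop
  -- a prime-power part
  have hx₀ : x₀ ∉ cent y₀ := fun h => hnc (mem_cent_iff.mp h)
  obtain ⟨u, huz, hupp, hucent⟩ : ∃ u ∈ zpowers x₀, IsPrimePow (orderOf u) ∧ u ∉ cent y₀ := by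
    by_contra hcon
    push Not at hcon
    exact hx₀ (mem_of_primary_powers (cent y₀) x₀ hcon)
  obtain ⟨r, j, hr', _, hj⟩ := hupp
  have hr : r.Prime := Nat.prime_iff.mpr hr'
  haveI : Fact r.Prime := ⟨hr⟩
  have huo : orderOf u = r ^ j := hj.symm
  have hccu : cc u = n := by
    have h1 : cc u ∣ n := by rw [← hx]; exact cc_dvd_of_le (cent_le_of_mem_zpowers huz)
    rcases V.hS u with h | h | h | h
    · exfalso
      apply hucent
      exact mem_cent_iff.mpr ((mem_center_iff.mp (cc_eq_one_iff.mp h)) y₀).symm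
    · exact h
    · exfalso
      rw [h] at h1
      have := Nat.eq_one_of_dvd_coprimes hcnm h1 (dvd_refl m)
      omega
    · exfalso
      rw [h] at h1
      have h2 : m ∣ n := (dvd_mul_left m n).trans h1
      have := Nat.eq_one_of_dvd_coprimes hcnm h2 (dvd_refl m)
      omega
  have hcuy : (cc u).Coprime (cc y₀) := by rw [hccu, hy₀]; exact hcnm
  have hrm : r ∣ m := by
    by_contra hrm
    have : Commute u y₀ := commute_of_coprime_index hcuy huo (by rwa [hy₀])
    exact hucent (mem_cent_iff.mpr this.eq)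
  have hrn : ¬ r ∣ n := fun h => by
    have := Nat.eq_one_of_dvd_coprimes hcnm h hrm
    exact hr.one_lt.ne' this
  have hon : (orderOf u).Coprime n := by
    rw [huo]
    exact Nat.Coprime.pow_left j ((Nat.Prime.coprime_iff_not_dvd hr).mpr hrn)
  -- the subgroup `[y₀, G]`
  set L := closN y₀ with hL
  have hcyu : (cc y₀).Coprime (cc u) := hcuy.symm
  have hle : cc (y₀ * u) ≤ cc u := by
    have hne : cc (y₀ * u) ≠ n * m := by
      intro he
      have h1 : cent y₀ ⊓ cent u = cent (y₀ * u) := by
        apply eq_of_le_of_index_eq (cent_inf_le_cent_mul y₀ u)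
        have he' : (cent (y₀ * u)).index = n * m := he
        rw [Cfsg.Agent.Lib.Basic.index_inf_of_coprime _ _ hcyu, he']
        change cc y₀ * cc u = n * m
        rw [hy₀, hccu, mul_comm]
      have h2 : y₀ * u ∈ cent (y₀ * u) := mem_cent_iff.mpr rfl
      rw [← h1] at h2
      have h3 := mem_cent_iff.mp h2.1
      apply hucent
      rw [mem_cent_iff]
      have : y₀ * (u * y₀) = y₀ * (y₀ * u) := by
        calc y₀ * (u * y₀) = y₀ * u * y₀ := by group
          _ = y₀ * (y₀ * u) := h3
      exact mul_left_cancel this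
    rw [hccu]
    rcases V.hS (y₀ * u) with h | h | h | h
    · omega
    · omega
    · omega
    · exact absurd h hne
  have hstab := closN_stab hcyu hle
  have hLn : Nat.card L ∣ n := by
    have := card_dvd_cc L u hstab
    rwa [hccu] at this
  have hLm : (Nat.card L).Coprime m := Nat.Coprime.coprime_dvd_left hLn hcnm
  have hnpos : 0 < n := by omega
  -- `L` meets the centralizer of `u` trivially
  have hLK : ∀ l ∈ L, Commute l u → l = 1 := by
    intro l hl hc
    have h1 := hstab l hl u (IsConj.refl u)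
    obtain ⟨c, hc'⟩ := isConj_iff.mp h1
    have h2 : orderOf (l * u) = orderOf u := by rw [← hc']; exact orderOf_conj_eq c u
    have h3 : orderOf l ∣ n := (Subgroup.orderOf_dvd_natCard L hl).trans hLn
    have h4 : (orderOf l).Coprime (orderOf u) :=
      (Nat.Coprime.coprime_dvd_right h3 hon).symm.symm.symm
    rw [hc.orderOf_mul_eq_mul_orderOf_of_coprime h4] at h2
    have h5 : orderOf l = 1 := by
      have hp := orderOf_pos u
      exact Nat.eq_of_mul_eq_mul_right hp (by rw [h2, one_mul])
    exact orderOf_eq_one_iff.mp h5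
  -- nontrivial
  have hLne : Nat.card L ≠ 1 := by
    intro h1
    have h2 : L = ⊥ := Subgroup.eq_bot_of_card_eq L h1
    have h3 := mem_center_of_closN_eq_bot h2
    have h4 := cc_eq_one_iff.mpr h3
    omega
  set s := (Nat.card L).minFac with hs
  have hsp : s.Prime := Nat.minFac_prime hLne
  haveI : Fact s.Prime := ⟨hsp⟩
  have hsL : s ∣ Nat.card L := Nat.minFac_dvd _
  have hsn : s ∣ n := hsL.trans hLn
  have hsm : ¬ s ∣ m := fun h => by
    have := Nat.eq_one_of_dvd_coprimes hcnm hsn h
    exact hsp.one_lt.ne' this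
  obtain ⟨y', hy'⟩ := exists_prime_orderOf_dvd_card' s hsL
  set y : G := (y' : G) with hydef
  have hyL : y ∈ L := y'.2
  have hyo : orderOf y = s := by rw [hydef, Subgroup.orderOf_coe]; exact hy'
  have hy1 : y ≠ 1 := by
    intro h
    rw [h, orderOf_one] at hyo
    exact hsp.one_lt.ne hyo
  have hyu : ¬ Commute y u := fun h => hy1 (hLK y hyL h)
  have hyZ : y ∉ center G := fun h => hyu ((mem_center_iff.mp h) u).symm
  have hccy : cc y = m := by
    have h1 : cc y < Nat.card L := by
      rw [cc, ← Cfsg.Agent.Lib.Struct.card_isConj_eq_index]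
      let f : {z : G // IsConj y z} → L := fun z => ⟨z.1, by
        obtain ⟨c, hc⟩ := isConj_iff.mp z.2
        rw [← hc]
        exact (normal_closN y₀).conj_mem y hyL c⟩
      have hf : Function.Injective f := fun a b hab => Subtype.ext (congrArg (fun z : L => (z : G)) hab)
      have hf1 : (1 : L) ∉ Set.range f := by
        rintro ⟨z, hz⟩
        have h2 : z.1 = 1 := congrArg Subtype.val hz
        obtain ⟨c, hc⟩ := isConj_iff.mp z.2
        apply hy1
        have : c * y * c⁻¹ = 1 := by rw [hc, h2]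
        simpa using (conj_eq_one_iff.mp this)
      have hns : ¬ Function.Surjective f := fun hs' => hf1 (hs' 1)
      haveI : Fintype {z : G // IsConj y z} := Fintype.ofFinite _
      haveI : Fintype L := Fintype.ofFinite _
      rw [Nat.card_eq_fintype_card, Nat.card_eq_fintype_card]
      exact Fintype.card_lt_of_injective_not_surjective f hf hns
    have h2 : Nat.card L ≤ n := Nat.le_of_dvd hnpos hLn
    rcases V.hS y with h | h | h | h
    · exact absurd (cc_eq_one_iff.mp h) hyZ
    · omega
    · exact h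
    · have : n ≤ n * m := Nat.le_mul_of_pos_right n (by omega)
      omega
  have hcuyy : (cc u).Coprime (cc y) := by rw [hccu, hccy]; exact hcnm
  -- elements of class size `m` centralize `L`
  have hYL : ∀ y', cc y' = m → L ≤ cent y' := by
    intro y' hy'
    apply normal_le_of_coprime
    change (Nat.card L).Coprime (cc y')
    rwa [hy']
  -- no element of class size `m` commutes with `u`
  have claim1 : ∀ v, cc v = m → ¬ Commute u v := by
    intro v hv hcu
    have hconj : ∀ g, Commute u (g * v * g⁻¹) := by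
      intro g
      have hcop' : (cc u).Coprime (cc v) := by rw [hccu, hv]; exact hcnm
      obtain ⟨t, h1, h2⟩ := pair_conj hcop' 1 g
      have h1' : t * u * t⁻¹ = u := by simpa using h1
      rw [← h2]
      have := (Commute.conj_iff t).mpr hcu
      rwa [h1'] at this
    have hyv : Commute y v := mem_cent_iff.mp (hYL v hv hyL)
    have hle1 : cent (y * v) ≤ cent y := by
      intro g hg
      have hg' := mem_cent_iff.mp hg
      have h1 : (g * y * g⁻¹) * (g * v * g⁻¹) = y * v := by
        calc (g * y * g⁻¹) * (g * v * g⁻¹) = g * (y * v) * g⁻¹ := by group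
          _ = y * v * g * g⁻¹ := by rw [hg']
          _ = y * v := by group
      have h2 : y⁻¹ * (g * y * g⁻¹) = v * (g * v * g⁻¹)⁻¹ := by
        calc y⁻¹ * (g * y * g⁻¹) = y⁻¹ * ((g * y * g⁻¹) * (g * v * g⁻¹)) * (g * v * g⁻¹)⁻¹ := by group
          _ = y⁻¹ * (y * v) * (g * v * g⁻¹)⁻¹ := by rw [h1]
          _ = v * (g * v * g⁻¹)⁻¹ := by group
      have h3 : y⁻¹ * (g * y * g⁻¹) ∈ L :=
        mul_mem (inv_mem hyL) ((normal_closN y₀).conj_mem y hyL g)
      have h4 : Commute (y⁻¹ * (g * y * g⁻¹)) u := by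
        rw [h2]
        exact ((hcu.symm.mul_left ((hconj g).symm.inv_left)).symm.symm)
      have h5 := hLK _ h3 h4
      have h6 : g * y * g⁻¹ = y := by
        have := congrArg (fun z => y * z) h5
        simpa using this
      rw [mem_cent_iff]
      calc g * y = (g * y * g⁻¹) * g := by group
        _ = y * g := by rw [h6]
    have hle2 : cent (y * v) ≤ cent v := by
      intro g hg
      have h1 := hle1 hg
      have hg' := mem_cent_iff.mp hg
      have h1' := mem_cent_iff.mp h1
      rw [mem_cent_iff]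
      have : y * (g * v) = y * (v * g) := by
        calc y * (g * v) = (y * g) * v := by group
          _ = (g * y) * v := by rw [h1']
          _ = g * (y * v) := by group
          _ = y * v * g := hg'
          _ = y * (v * g) := by group
      exact mul_left_cancel this
    have heq : cent (y * v) = cent y ⊓ cent v :=
      le_antisymm (le_inf hle1 hle2) (cent_inf_le_cent_mul y v)
    have h1 := cc_eq_relIndex_of_cent heq
    rw [hccy] at h1
    have h2 : (cent v).relIndex (cent y) ≤ m := by
      have := relIndex_le_index' (cent v) (cent y)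
      rwa [show (cent v).index = m from hv] at this
    rcases V.symm.mul_n_cases h1 with hf | hf
    · have h3 : cent y ≤ cent v := relIndex_eq_one.mp hf
      have h4 : cent y = cent v := eq_of_le_of_index_eq h3 (by
        change cc y = cc v
        rw [hccy, hv])
      have h5 : u ∈ cent v := mem_cent_iff.mpr hcu.eq
      rw [← h4] at h5
      exact hyu (mem_cent_iff.mp h5).symm
    · omega
  -- `s`-elements of the intersection are central
  have hsu : (orderOf u).Coprime s := Nat.Coprime.coprime_dvd_right hsn hon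
  have hnot : ∀ d, Commute y d → ¬ cent d ≤ cent u := by
    intro d hyd hle'
    have h1 : y ∈ cent d := mem_cent_iff.mpr hyd.eq
    exact hyu (mem_cent_iff.mp (hle' h1))
  have hs1 : ∀ d, Commute u d → Commute y d → (∃ j, orderOf d = s ^ j) → d ∈ center G := by
    rintro d hud hyd ⟨i, hi⟩
    have hcop : (orderOf d).Coprime (orderOf u) := by
      rw [hi]
      exact Nat.Coprime.pow_left i hsu.symm
    have hform : cc (d * u) = (cent u).relIndex (cent d) * cc d := cc_mul_eq hud.symm hcop
    rcases V.hS d with h | h | h | h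
    · exact cc_eq_one_iff.mp h
    · exfalso
      rw [h] at hform
      rcases V.mul_n_cases hform with hf | hf
      · exact hnot d hyd (relIndex_eq_one.mp hf)
      · -- `L` inside the centralizer of `d`
        let A : Subgroup (cent d) := L.subgroupOf (cent d)
        let B : Subgroup (cent d) := (cent u).subgroupOf (cent d)
        have hB : B.index = m := hf
        have hAc : Nat.card A ∣ Nat.card L := by
          have h1 : Nat.card A = Nat.card (A.map (cent d).subtype) :=
            (Subgroup.card_map_of_injective (cent d).subtype_injective).symm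
          rw [h1]
          apply Subgroup.card_dvd_of_le
          rintro _ ⟨a, ha, rfl⟩
          exact ha
        have hcopA : (Nat.card A).Coprime B.index := by
          rw [hB]
          exact Nat.Coprime.coprime_dvd_left hAc hLm
        haveI : A.Normal := inferInstance
        have hAB : A ≤ B := normal_le_of_coprime A B hcopA
        have hyd' : y ∈ cent d := mem_cent_iff.mpr hyd.eq
        have h1 : (⟨y, hyd'⟩ : cent d) ∈ A := hyL
        have h2 := hAB h1
        have h3 : y ∈ cent u := h2
        exact hyu (mem_cent_iff.mp h3)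
    · exact absurd hud (claim1 d h)
    · exfalso
      rw [h] at hform
      exact hnot d hyd (relIndex_eq_one.mp (V.mul_nm hform))
  -- counting
  set D := cent u ⊓ cent y with hD
  have hDi : D.index = n * m := by
    rw [hD, Cfsg.Agent.Lib.Basic.index_inf_of_coprime _ _ hcuyy]
    change cc u * cc y = n * m
    rw [hccu, hccy]
  set a := (Nat.card D).factorization s with ha
  have hZ : s ^ a ∣ Nat.card (center G) := by
    obtain ⟨P⟩ : Nonempty (Sylow s D) := inferInstance
    have h1 : Nat.card P = s ^ a := P.card_eq_multiplicity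
    rw [← h1]
    have h2 : Nat.card P = Nat.card ((P : Subgroup D).map D.subtype) :=
      (Subgroup.card_map_of_injective D.subtype_injective).symm
    rw [h2]
    apply Subgroup.card_dvd_of_le
    rintro _ ⟨z, hz, rfl⟩
    have hzD := z.2
    obtain ⟨i, hi⟩ := exists_orderOf_of_mem_isPGroup P.isPGroup' hz
    apply hs1
    · exact (mem_cent_iff.mp hzD.1).symm
    · exact (mem_cent_iff.mp hzD.2).symm
    · exact ⟨i, by rw [Subgroup.coe_subtype, Subgroup.orderOf_coe]; exact hi⟩
  have hG : Nat.card G = n * m * Nat.card D := by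
    rw [← hDi]; exact (Subgroup.index_mul_card D).symm
  have hGpos : 0 < Nat.card G := Nat.card_pos
  have hDpos : 0 < Nat.card D := Nat.card_pos
  have hT : ∀ t, Commute y t → cc t ≠ n ∧ cc t ≠ n * m := by
    intro t hyt
    have hE : zpowers y ⊔ center G ≤ cent t := by
      rw [sup_le_iff]
      constructor
      · rw [zpowers_le]
        exact mem_cent_iff.mpr hyt.eq
      · intro z hz
        exact mem_cent_iff.mpr ((mem_center_iff.mp hz) t).symm
    have h1 := Cfsg.Agent.Lib.Basic.card_sup_eq_of_normal (zpowers y) (center G)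
    have h2 : (center G).relIndex (zpowers y) = s := by
      have h3 : (center G).relIndex (zpowers y) ∣ s := by
        have := Subgroup.relIndex_dvd_card (center G) (zpowers y)
        rwa [Nat.card_zpowers, hyo] at this
      rcases (Nat.dvd_prime hsp).mp h3 with h4 | h4
      · exfalso
        apply hyZ
        exact (relIndex_eq_one.mp h4) (mem_zpowers y)
      · exact h4
    rw [h2] at h1
    have h3 : Nat.card (center G) * s ∣ Nat.card (cent t) := by
      rw [← h1]
      exact Subgroup.card_dvd_of_le hE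
    have h4 : s ^ (a + 1) ∣ Nat.card (cent t) := by
      rw [pow_succ]
      exact (mul_dvd_mul_right hZ s).trans h3
    have hGt : Nat.card G = cc t * Nat.card (cent t) := (Subgroup.index_mul_card _).symm
    have hcs : (s ^ (a + 1)).Coprime m :=
      Nat.Coprime.pow_left _ ((Nat.Prime.coprime_iff_not_dvd hsp).mpr hsm)
    have hnd := Nat.pow_succ_factorization_not_dvd hDpos.ne' hsp
    constructor
    · intro hc
      rw [hc, hG] at hGt
      have h5 : Nat.card (cent t) = m * Nat.card D := by
        have : n * (m * Nat.card D) = n * Nat.card (cent t) := by rw [← hGt]; ring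
        exact (Nat.eq_of_mul_eq_mul_left hnpos this).symm
      rw [h5] at h4
      exact hnd (hcs.dvd_of_dvd_mul_left h4)
    · intro hc
      rw [hc, hG] at hGt
      have hnm : 0 < n * m := by positivity
      have h5 : Nat.card (cent t) = Nat.card D := (Nat.eq_of_mul_eq_mul_left hnm hGt).symm
      rw [h5] at h4
      exact hnd h4
  have hDZ : D ≤ center G := by
    intro d hd
    have h1 : Commute u d := (mem_cent_iff.mp hd.1).symm
    have h2 : Commute y d := (mem_cent_iff.mp hd.2).symm
    rcases V.hS d with h | h | h | h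
    · exact cc_eq_one_iff.mp h
    · exact absurd h (hT d h2).1
    · exact absurd h1 (claim1 d h)
    · exact absurd h (hT d h2).2
  have hwc : Nat.card (cent w) = Nat.card D := by
    have hGw : Nat.card G = cc w * Nat.card (cent w) := (Subgroup.index_mul_card _).symm
    rw [hw, hG] at hGw
    have hnm : 0 < n * m := by positivity
    exact (Nat.eq_of_mul_eq_mul_left hnm hGw).symm
  have hZw : center G ≤ cent w := fun z hz => mem_cent_iff.mpr ((mem_center_iff.mp hz) w).symm
  have hle3 : Nat.card (cent w) ≤ Nat.card (center G) := by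
    rw [hwc]
    exact Subgroup.card_le_of_le hDZ
  have heq := Subgroup.eq_of_le_of_card_ge hZw hle3
  have hwm : w ∈ cent w := mem_cent_iff.mpr rfl
  rw [← heq] at hwm
  have h1 := cc_eq_one_iff.mpr hwm
  rw [hw] at h1
  have := Nat.eq_one_of_mul_eq_one_left h1
  omega

theorem Vec.all_commute (V : Vec G n m) {w : G} (hw : cc w = n * m) {x y : G} (hx : cc x = n)
    (hy : cc y = m) : Commute x y := by
  by_contra hnc
  have hne : n ≠ m := by
    intro h
    have hc := V.hcop
    rw [← h, Nat.coprime_self] at hc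
    have := V.hn
    omega
  rcases lt_or_gt_of_ne hne with h | h
  · exact V.symm.nc h (w := w) hy hx (by rw [hw, mul_comm]) (fun hc => hnc hc.symm)
  · exact V.nc h hx hy hw hnc

theorem Vec.cent_le_of_nm (V : Vec G n m) {u z : G} (hu : cc u = n * m) (hc : Commute u z)
    (hcop : (orderOf u).Coprime (orderOf z)) : cent u ≤ cent z := by
  have h := cc_mul_eq hc hcop
  rw [hu] at h
  exact relIndex_eq_one.mp (V.mul_nm h)

/-- Elementwise Jordan: a proper subgroup misses a whole conjugacy class. -/
theorem exists_not_conj_mem {T : Type*} [Group T] [Finite T] (D : Subgroup T) (hD : D ≠ ⊤) :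
    ∃ t : T, ∀ w : T, w * t * w⁻¹ ∉ D := by
  haveI : Nontrivial (T ⧸ D) := by
    by_contra hnt
    rw [not_nontrivial_iff_subsingleton] at hnt
    apply hD
    rw [← Subgroup.index_eq_one, Subgroup.index, Nat.card_eq_one_iff_unique]
    exact ⟨hnt, ⟨((1 : T) : T ⧸ D)⟩⟩
  obtain ⟨t, ht⟩ := Cfsg.Agent.Lib.Recog.exists_derangement (G := T) (Ω := T ⧸ D)
  refine ⟨t, fun w hw => ?_⟩
  apply ht ((w⁻¹ : T) : T ⧸ D)
  rw [MulAction.Quotient.smul_coe, QuotientGroup.eq, smul_eq_mul]
  have : (t * w⁻¹)⁻¹ * w⁻¹ = (w * t * w⁻¹)⁻¹ := by group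
  rw [this]
  exact D.inv_mem hw

/-- Elements of class size `m` of prime-power order have order prime to `n`-type primes only if
the prime divides `m`: the Jordan argument. -/
theorem Vec.jordan (V : Vec G n m) (hcomm : ∀ a b : G, cc a = n → cc b = m → Commute a b)
    {x y : G} {r t a b : ℕ} [Fact r.Prime] [Fact t.Prime] (hx : cc x = n) (hy : cc y = m)
    (hxo : orderOf x = r ^ a) (hyo : orderOf y = t ^ b) (ht : ¬ t ∣ m) : False := by
  classical
  have hrp : r.Prime := Fact.out
  have htp : t.Prime := Fact.out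
  have hm1 := V.hm
  have hn1 := V.hn
  have hxy := hcomm x y hx hy
  have hrt : r ≠ t := by
    rintro rfl
    exact V.same_all hx hy hxy hxo hyo
  set K := cent x with hK
  have hcxy : (cc x).Coprime (cc y) := by rw [hx, hy]; exact V.hcop
  have hyK : y ∈ K := mem_cent_iff.mpr hxy.symm.eq
  have hconj : ∀ Q : Subgroup G, ¬ t ∣ Q.relIndex K → ∃ k ∈ K, k * y * k⁻¹ ∈ Q := by
    intro Q hQ
    let v : K := ⟨y, hyK⟩
    have hv : orderOf v = t ^ b := by rw [Subgroup.orderOf_mk]; exact hyo
    obtain ⟨τ, hτ⟩ := exists_conj_mem_of_not_dvd (Q.subgroupOf K) hv hQ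
    exact ⟨τ, τ.2, by simpa [Subgroup.mem_subgroupOf, v] using hτ⟩
  have hclaim : ∀ g ∈ K, ∃ k ∈ K, Commute g (k * y * k⁻¹) := by
    intro g hg
    obtain ⟨u, e, hge, hue, ⟨i, hi⟩, hre, huz, hez⟩ := exists_pPart r g
    have hxg : Commute x g := (mem_cent_iff.mp hg).symm
    have hxu : Commute x u := by
      obtain ⟨c, rfl⟩ := huz
      exact hxg.zpow_right c
    have hxe : Commute x e := by
      obtain ⟨c, rfl⟩ := hez
      exact hxg.zpow_right c
    have hcope : (orderOf x).Coprime (orderOf e) := by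
      rw [hxo]
      exact Nat.Coprime.pow_left a ((Nat.Prime.coprime_iff_not_dvd hrp).mpr hre)
    have hnd : ¬ t ∣ (cent e).relIndex K := by
      rcases V.relIndex_cases hx hxe hcope with h | h
      · rw [h]
        exact fun hd => htp.one_lt.ne' (Nat.dvd_one.mp hd)
      · rw [h]
        exact ht
    have hcomb : ∀ k : G, Commute u (k * y * k⁻¹) → k * y * k⁻¹ ∈ cent e →
        Commute g (k * y * k⁻¹) := by
      intro k h1 h2
      rw [hge]
      exact h1.mul_left (mem_cent_iff.mp h2).symm
    rcases V.hS u with h | h | h | h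
    · obtain ⟨k, hk, hke⟩ := hconj (cent e) hnd
      refine ⟨k, hk, hcomb k ?_ hke⟩
      exact ((mem_center_iff.mp (cc_eq_one_iff.mp h)) _).symm
    · obtain ⟨k, hk, hke⟩ := hconj (cent e) hnd
      refine ⟨k, hk, hcomb k ?_ hke⟩
      exact hcomm u _ h (by rw [cc_conj]; exact hy)
    · exact (V.same_all hx h hxu hxo hi).elim
    · obtain ⟨S₁⟩ : Nonempty (Sylow t (cent u)) := inferInstance
      set S := (S₁ : Subgroup (cent u)).map (cent u).subtype with hS
      set c := (Nat.card (cent u)).factorization t with hc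
      have hScard : Nat.card S = t ^ c := by
        rw [hS, Subgroup.card_map_of_injective (cent u).subtype_injective]
        exact S₁.card_eq_multiplicity
      have hSmem : S ≤ cent g ⊓ K := by
        rintro _ ⟨z, hz, rfl⟩
        obtain ⟨j, hj⟩ := exists_orderOf_of_mem_isPGroup S₁.isPGroup' hz
        have hzo : orderOf (z : G) = t ^ j := by rw [Subgroup.orderOf_coe]; exact hj
        have hcu : Commute u (z : G) := (mem_cent_iff.mp z.2).symm
        have hcop : (orderOf u).Coprime (orderOf (z : G)) := by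
          rw [hi, hzo]
          exact Nat.coprime_pow_primes _ _ hrp htp hrt
        have hle := V.cent_le_of_nm h hcu hcop
        have hxc : x ∈ cent u := mem_cent_iff.mpr hxu.eq
        have hec : e ∈ cent u := mem_cent_iff.mpr hue.symm.eq
        have huc : u ∈ cent u := mem_cent_iff.mpr rfl
        have h1 : Commute x (z : G) := mem_cent_iff.mp (hle hxc)
        have h2 : Commute e (z : G) := mem_cent_iff.mp (hle hec)
        have h3 : Commute u (z : G) := hcu
        constructor
        · have hzg : (z : G) ∈ cent g := by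
            rw [mem_cent_iff, hge]
            exact (h3.mul_left h2).symm.eq
          exact hzg
        · have hzK : (z : G) ∈ K := by
            rw [hK]
            exact mem_cent_iff.mpr h1.symm.eq
          exact hzK
      have hnd2 : ¬ t ∣ (cent g).relIndex K := by
        intro hd
        have h1 : Nat.card K = m * Nat.card (cent u) := by
          have h2 : Nat.card G = cc x * Nat.card K := (Subgroup.index_mul_card _).symm
          have h3 : Nat.card G = cc u * Nat.card (cent u) := (Subgroup.index_mul_card _).symm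
          rw [hx] at h2
          rw [h] at h3
          have hnpos : 0 < n := by omega
          have : n * Nat.card K = n * (m * Nat.card (cent u)) := by
            rw [← h2, h3]; ring
          exact Nat.eq_of_mul_eq_mul_left hnpos this
        have h2 : Nat.card (cent g ⊓ K : Subgroup G) * (cent g).relIndex K = Nat.card K := by
          have h3 := Subgroup.relIndex_mul_relIndex (⊥ : Subgroup G) (cent g ⊓ K) K bot_le inf_le_right
          rw [Subgroup.relIndex_bot_left, Subgroup.relIndex_bot_left, Subgroup.inf_relIndex_right] at h3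
          exact h3
        have h3 : t ^ c ∣ Nat.card (cent g ⊓ K : Subgroup G) := by
          rw [← hScard]
          exact Subgroup.card_dvd_of_le hSmem
        have h4 : t ^ (c + 1) ∣ Nat.card K := by
          rw [← h2, pow_succ]
          exact mul_dvd_mul h3 hd
        rw [h1] at h4
        have hcs : (t ^ (c + 1)).Coprime m :=
          Nat.Coprime.pow_left _ ((Nat.Prime.coprime_iff_not_dvd htp).mpr ht)
        have h5 := hcs.dvd_of_dvd_mul_left h4
        exact Nat.pow_succ_factorization_not_dvd (Nat.card_pos.ne') htp h5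
      obtain ⟨k, hk, hkg⟩ := hconj (cent g) hnd2
      exact ⟨k, hk, (mem_cent_iff.mp hkg).symm⟩
  let D : Subgroup K := (cent y).subgroupOf K
  have hDi : D.index = m := by
    have := relIndex_of_coprime hcxy
    rw [hy] at this
    exact this
  have hD : D ≠ ⊤ := by
    intro h
    rw [h, Subgroup.index_top] at hDi
    omega
  obtain ⟨τ, hτ⟩ := exists_not_conj_mem D hD
  obtain ⟨k, hk, hc⟩ := hclaim τ τ.2
  apply hτ (⟨k, hk⟩ : K)⁻¹
  rw [Subgroup.mem_subgroupOf, mem_cent_iff]
  have hc' : (τ : G) * (k * y * k⁻¹) = (k * y * k⁻¹) * τ := hc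
  simp only [Subgroup.coe_mul, Subgroup.coe_inv, inv_inv]
  calc k⁻¹ * (τ : G) * k * y = k⁻¹ * ((τ : G) * (k * y * k⁻¹)) * k := by group
    _ = k⁻¹ * ((k * y * k⁻¹) * τ) * k := by rw [hc']
    _ = y * (k⁻¹ * τ * k) := by group

/-- A power of `x` outside the centre of prime-power order has the same class size. -/
theorem Vec.exists_pp (V : Vec G n m) {x : G} (hx : cc x = n) :
    ∃ u : G, cc u = n ∧ ∃ r a : ℕ, r.Prime ∧ orderOf u = r ^ a := by
  have hn1 := V.hn
  have hm1 := V.hm
  have hxZ : x ∉ center G := fun h => by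
    have h1 : cc x = 1 := cc_eq_one_iff.mpr h
    omega
  obtain ⟨u, huz, hupp, hucent⟩ : ∃ u ∈ zpowers x, IsPrimePow (orderOf u) ∧ u ∉ center G := by
    by_contra hcon
    push Not at hcon
    exact hxZ (mem_of_primary_powers (center G) x hcon)
  obtain ⟨r, j, hr', _, hj⟩ := hupp
  refine ⟨u, ?_, r, j, Nat.prime_iff.mpr hr', hj.symm⟩
  have h1 : cc u ∣ n := by rw [← hx]; exact cc_dvd_of_le (cent_le_of_mem_zpowers huz)
  rcases V.hS u with h | h | h | h
  · exact absurd (cc_eq_one_iff.mp h) hucent
  · exact h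
  · exfalso
    rw [h] at h1
    have := Nat.eq_one_of_dvd_coprimes V.hcop h1 (dvd_refl m)
    omega
  · exfalso
    rw [h] at h1
    have h2 : m ∣ n := (dvd_mul_left m n).trans h1
    have := Nat.eq_one_of_dvd_coprimes V.hcop h2 (dvd_refl m)
    omega

theorem Vec.good_y (V : Vec G n m) (hcomm : ∀ a b : G, cc a = n → cc b = m → Commute a b)
    {y : G} {t b : ℕ} (htp : t.Prime) (hy : cc y = m) (hyo : orderOf y = t ^ b) : t ∣ m := by
  by_contra ht
  obtain ⟨x, hx⟩ := V.hexN
  obtain ⟨u, hu, r, a, hr, huo⟩ := V.exists_pp hx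
  haveI := Fact.mk hr
  haveI := Fact.mk htp
  exact V.jordan hcomm hu hy huo hyo ht

theorem index_cent_sub {T : Type*} [Group T] [Finite T] (Q H : Subgroup T) [H.Normal]
    (hsup : Q ⊔ H = ⊤) (hcomm : ∀ a ∈ Q, ∀ b ∈ H, Commute a b) (z : H) :
    (centralizer ({z} : Set H)).index = (centralizer ({(z : T)} : Set T)).index := by
  rw [index_centralizer_coe H z]
  set S := centralizer ({(z : T)} : Set T) with hS
  have h1 := Cfsg.Agent.Lib.Basic.relIndex_sup_of_normal S H
  have hQS : Q ≤ S := by
    intro a ha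
    rw [hS, mem_centralizer_singleton_iff]
    exact (hcomm a ha z z.2).eq
  have h2 : S ⊔ H = ⊤ := by
    rw [eq_top_iff, ← hsup]
    exact sup_le_sup_right hQS H
  rw [h2, Subgroup.relIndex_top_right] at h1
  exact h1.symm

/-- The structure of the centralizer of a `q`-element of class size `m`. -/
theorem Vec.tstruct (V : Vec G n m) (hcomm : ∀ a b : G, cc a = n → cc b = m → Commute a b)
    {y : G} {q b : ℕ} [Fact q.Prime] (hy : cc y = m) (hyo : orderOf y = q ^ b) (hqm : q ∣ m) :
    ∃ Q H : Subgroup (cent y), Q.Normal ∧ H.Normal ∧ IsPGroup q Q ∧ (Nat.card H).Coprime q ∧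
      Q ⊔ H = ⊤ ∧ (∀ a ∈ Q, ∀ b ∈ H, Commute a b) ∧
      (∀ z : cent y, (orderOf z).Coprime q → z ∈ H) ∧
      (∀ z : cent y, (∃ j, orderOf z = q ^ j) → z ∈ Q) ∧
      (∀ z : H, (centralizer ({z} : Set H)).index = 1 ∨ (centralizer ({z} : Set H)).index = n) ∧
      ∃ z : H, (centralizer ({z} : Set H)).index = n := by
  have hqp : q.Prime := Fact.out
  have hqn : ¬ q ∣ n := fun h => by
    have := Nat.eq_one_of_dvd_coprimes V.hcop h hqm
    exact hqp.one_lt.ne' this
  have hidx : ∀ z : cent y, (orderOf z).Coprime q →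
      (centralizer ({z} : Set (cent y))).index = 1 ∨ (centralizer ({z} : Set (cent y))).index = n := by
    intro z hz
    rw [index_centralizer_coe]
    have hzc : Commute y (z : G) := (mem_centralizer_singleton_iff.mp z.2).symm
    have hcop : (orderOf y).Coprime (orderOf (z : G)) := by
      rw [hyo, Subgroup.orderOf_coe]
      exact Nat.Coprime.pow_left b hz.symm
    exact V.symm.relIndex_cases hy hzc hcop
  have h1 : ∀ z : cent y, (orderOf z).Coprime q →
      ¬ q ∣ (centralizer ({z} : Set (cent y))).index := by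
    intro z hz hd
    rcases hidx z hz with h2 | h2
    · rw [h2] at hd
      exact hqp.one_lt.ne' (Nat.dvd_one.mp hd)
    · rw [h2] at hd
      exact hqn hd
  obtain ⟨Q, H, hQn, hHn, hQp, hHc, hinf, hsup, hcQH, hreg, hsing⟩ := struct_of_regular q h1
  refine ⟨Q, H, hQn, hHn, hQp, hHc, hsup, hcQH, hreg, hsing, ?_, ?_⟩
  · intro z
    rw [index_cent_sub Q H hsup hcQH z]
    apply hidx
    have h2 : orderOf (z : cent y) ∣ Nat.card H := by
      rw [Subgroup.orderOf_coe]
      exact orderOf_dvd_natCard z
    exact Nat.Coprime.coprime_dvd_left h2 hHc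
  · obtain ⟨x, hx⟩ := V.hexN
    obtain ⟨u, hu, r, a, hr, huo⟩ := V.exists_pp hx
    have hrn : r ∣ n := V.symm.good_y (fun a b ha hb => (hcomm b a hb ha).symm) hr hu huo
    have hrq : r ≠ q := by
      rintro rfl
      exact hqn hrn
    have huy : Commute u y := hcomm u y hu hy
    have huT : u ∈ cent y := mem_cent_iff.mpr huy.eq
    have huH : (⟨u, huT⟩ : cent y) ∈ H := by
      apply hreg
      rw [Subgroup.orderOf_mk, huo]
      exact Nat.Coprime.pow_left a ((Nat.coprime_primes hr hqp).mpr hrq)
    refine ⟨⟨⟨u, huT⟩, huH⟩, ?_⟩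
    rw [index_cent_sub Q H hsup hcQH, index_centralizer_coe]
    have hcu : (cc y).Coprime (cc u) := by rw [hy, hu]; exact V.hcop.symm
    have := relIndex_of_coprime hcu
    rw [hu] at this
    exact this

theorem Vec.primePow (V : Vec G n m) (hcomm : ∀ a b : G, cc a = n → cc b = m → Commute a b) :
    IsPrimePow n := by
  obtain ⟨y, hy⟩ := V.hexM
  obtain ⟨u, hu, q, b, hq, huo⟩ := V.symm.exists_pp hy
  haveI := Fact.mk hq
  have hqm := V.good_y hcomm hq hu huo
  obtain ⟨Q, H, -, hHn, -, -, -, -, -, -, hidx, hex⟩ := V.tstruct hcomm hu huo hqm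
  obtain ⟨p, hp, a, hna, -⟩ := Cfsg.Agent.S4134.result n V.hn hidx hex
  have hn1 := V.hn
  refine (isPrimePow_nat_iff _).mpr ⟨p, a, hp.out, ?_, hna.symm⟩
  rcases a with _ | a
  · rw [pow_zero] at hna; omega
  · exact Nat.succ_pos a

/-- Sylow subgroups for primes dividing `n` are normal. -/
theorem Vec.sylow_normal (V : Vec G n m) (hcomm : ∀ a b : G, cc a = n → cc b = m → Commute a b)
    {p : ℕ} [hpf : Fact p.Prime] (hpn : p ∣ n) (P : Sylow p G) : (P : Subgroup G).Normal := by
  classical
  have hpp : p.Prime := Fact.out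
  obtain ⟨y₀, hy₀⟩ := V.hexM
  obtain ⟨y, hy, q, b, hq, hyo⟩ := V.symm.exists_pp hy₀
  haveI := Fact.mk hq
  have hqm := V.good_y hcomm hq hy hyo
  have hpq : p ≠ q := by
    rintro rfl
    have := Nat.eq_one_of_dvd_coprimes V.hcop hpn hqm
    exact hpp.one_lt.ne' this
  obtain ⟨Q, H, hQn, hHn, hQp, hHc, hsup, hcQH, hreg, hsing, hidx, hex⟩ :=
    V.tstruct hcomm hy hyo hqm
  obtain ⟨p', hp', a, hna, hall⟩ := Cfsg.Agent.S4134.result n V.hn hidx hex
  have hpeq : p = p' := by
    rw [hna] at hpn
    exact (Nat.prime_dvd_prime_iff_eq hpp hp'.out).mp (hpp.dvd_of_dvd_pow hpn)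
  subst hpeq
  -- `m` is a power of `q`
  have hmq : ∃ c, m = q ^ c := by
    obtain ⟨q', c, hq', _, hc⟩ := (isPrimePow_nat_iff _).mp
      (V.symm.primePow (fun a b ha hb => (hcomm b a hb ha).symm))
    have : q = q' := by
      rw [← hc] at hqm
      exact (Nat.prime_dvd_prime_iff_eq hq hq').mp (hq.dvd_of_dvd_pow hqm)
    subst this
    exact ⟨c, hc.symm⟩
  obtain ⟨c, hc⟩ := hmq
  obtain ⟨R₁⟩ : Nonempty (Sylow p H) := inferInstance
  obtain ⟨hR₁n, -⟩ := hall R₁
  set Rg : Subgroup G := ((R₁ : Subgroup H).map H.subtype).map (cent y).subtype with hRg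
  have hRgp : IsPGroup p Rg := (R₁.isPGroup'.map H.subtype).map (cent y).subtype
  have hcp : ∀ j, (p ^ j).Coprime q := fun j =>
    Nat.Coprime.pow_left j ((Nat.coprime_primes hpp hq).mpr hpq)
  -- `p`-elements of `T` lie in `Rg`
  have hmemT : ∀ v : G, v ∈ cent y → (∃ j, orderOf v = p ^ j) → v ∈ Rg := by
    rintro v hvT ⟨j, hj⟩
    have hvH : (⟨v, hvT⟩ : cent y) ∈ H := by
      apply hreg
      rw [Subgroup.orderOf_mk, hj]
      exact hcp j
    have hvR : (⟨⟨v, hvT⟩, hvH⟩ : H) ∈ (R₁ : Subgroup H) := by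
      obtain ⟨R₂, hR₂⟩ := (isPGroup_zpowers_iff (x := (⟨⟨v, hvT⟩, hvH⟩ : H))).mpr
        ⟨j, by rw [Subgroup.orderOf_mk, Subgroup.orderOf_mk, hj]⟩ |>.exists_le_sylow
      have h1 : R₂ = R₁ := by
        haveI := Sylow.unique_of_normal R₁ hR₁n
        exact Subsingleton.elim _ _
      rw [← h1]
      exact hR₂ (mem_zpowers _)
    exact ⟨⟨v, hvT⟩, ⟨_, hvR, rfl⟩, rfl⟩
  -- elements of `Rg` lie in `H`
  have hRgH : ∀ v ∈ Rg, ∃ hv : v ∈ cent y, (⟨v, hv⟩ : cent y) ∈ H := by
    rintro _ ⟨_, ⟨h, _, rfl⟩, rfl⟩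
    exact ⟨(h : cent y).2, h.2⟩
  have hyQ : ∀ hyT : y ∈ cent y, (⟨y, hyT⟩ : cent y) ∈ Q := fun hyT =>
    hsing _ ⟨b, by rw [Subgroup.orderOf_mk]; exact hyo⟩
  have hyT : y ∈ cent y := mem_cent_iff.mpr rfl
  have hcl : IsPGroup q (normalClosure ({y} : Set G)) :=
    normalClosure_isPGroup_of_index (a := c) hyo (by rw [← hc]; exact hy)
  haveI hcln : (normalClosure ({y} : Set G)).Normal := Subgroup.normalClosure_normal
  -- A × B
  have hAB : ∀ v ∈ Rg, ∀ g : G, Commute v (g * y * g⁻¹) := by
    intro v hv g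
    obtain ⟨j, hj⟩ := exists_orderOf_of_mem_isPGroup hRgp hv
    obtain ⟨hvT, hvH⟩ := hRgH v hv
    have hle : zpowers v ≤ centralizer (normalClosure ({y} : Set G) : Set G) := by
      apply Cfsg.Agent.Lib.OddLocal.thompson_AxB q (normalClosure ({y} : Set G)) (zpowers v)
        (Q.map (cent y).subtype) hcl (hQp.map (cent y).subtype) (by rw [Nat.card_zpowers, hj]; exact hcp j)
      · rw [Subgroup.normalizer_eq_top_iff.mpr hcln]; exact le_top
      · rw [Subgroup.normalizer_eq_top_iff.mpr hcln]; exact le_top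
      · rintro _ ⟨i, rfl⟩ _ ⟨z, hz, rfl⟩
        have h1 : Commute z (⟨v, hvT⟩ : cent y) := hcQH z hz _ hvH
        have h2 : Commute (z : G) v := congrArg Subtype.val h1.eq
        exact (h2.symm.zpow_left i).eq
      · rintro _ ⟨i, rfl⟩ z hz hzc
        have hzT : z ∈ cent y := by
          rw [mem_cent_iff]
          exact (hzc y ⟨⟨y, hyT⟩, hyQ hyT, rfl⟩).symm
        have hzQ : (⟨z, hzT⟩ : cent y) ∈ Q := by
          apply hsing
          obtain ⟨k, hk⟩ := exists_orderOf_of_mem_isPGroup hcl hz
          exact ⟨k, by rw [Subgroup.orderOf_mk]; exact hk⟩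
        have h1 : Commute (⟨z, hzT⟩ : cent y) (⟨v, hvT⟩ : cent y) := hcQH _ hzQ _ hvH
        have h2 : Commute z v := congrArg Subtype.val h1.eq
        exact (h2.symm.zpow_left i).eq
    have h1 : v ∈ centralizer (normalClosure ({y} : Set G) : Set G) := hle (mem_zpowers v)
    have h2 : g * y * g⁻¹ ∈ normalClosure ({y} : Set G) :=
      hcln.conj_mem y (Subgroup.subset_normalClosure (Set.mem_singleton y)) g
    have h3 := (mem_centralizer_iff.mp h1) _ h2
    exact h3.symm
  -- every `p`-element lies in `Rg`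
  have hall' : ∀ v : G, (∃ j, orderOf v = p ^ j) → v ∈ Rg := by
    rintro v ⟨j, hj⟩
    have hpm : ¬ p ∣ (cent y).index := by
      change ¬ p ∣ cc y
      rw [hy, hc]
      intro hd
      exact hpq ((Nat.prime_dvd_prime_iff_eq hpp hq).mp (hpp.dvd_of_dvd_pow hd))
    obtain ⟨t, ht⟩ := exists_conj_mem_of_not_dvd (cent y) hj hpm
    have h1 : t * v * t⁻¹ ∈ Rg := hmemT _ ht ⟨j, by rw [orderOf_conj_eq]; exact hj⟩
    have h2 := hAB _ h1 t
    have h3 : Commute v y := (Commute.conj_iff t).mp h2
    exact hmemT v (mem_cent_iff.mpr h3.eq) ⟨j, hj⟩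
  have hPle : (P : Subgroup G) ≤ Rg := by
    intro a ha
    apply hall'
    exact exists_orderOf_of_mem_isPGroup P.isPGroup' ha
  have hPeq : Rg = P := P.is_maximal' hRgp hPle
  refine ⟨fun a ha g => ?_⟩
  rw [← hPeq]
  apply hall'
  obtain ⟨j, hj⟩ := exists_orderOf_of_mem_isPGroup P.isPGroup' ha
  exact ⟨j, by rw [orderOf_conj_eq]; exact hj⟩

end Cfsg.Agent.Lib.Misc7.TypeVec
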